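import Cfsg.Agent.Lib.Fi24Char15.TwoRank
import Cfsg.Agent.Lib.LargeExtra.Quotient
import Cfsg.Agent.Lib.LargeFischer13.Setting

/-!
`O₂(C(z)) = 2^{1+12}` with `C(z)/O₂(C(z))` an extension of a group of order three by `PSU(4,3)` only:
no other conjugate of `z` lies in `O₂(C(z))`.
-/

set_option autoImplicit false
set_option linter.style.haveILetI false

namespace Cfsg.Agent.Lib.Fi24Char15

open Cfsg.Agent.Lib.LargeExtra.TwoConjugate
open Cfsg.Agent.Lib.LargeFischer13 (Cz QG Ebar Ecap)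

universe u

variable {G : Type u} [Group G] [Finite G] {z : G}

/-- the two-conjugate setting from a self-centralising extraspecial normal subgroup of `C(z)` -/
theorem exists_setting (hz : orderOf z = 2) {Q : Subgroup (Cz z)} [Q.Normal] (hQ : Cfsg.IsExtraspecial 2 Q)
    (hc : Nat.card Q = 2 ^ 13) (hCJ : Subgroup.centralizer (Q : Set (Cz z)) ≤ Q) {g : G}
    (hgQ : g * z * g⁻¹ ∈ QG Q) (hne : g * z * g⁻¹ ≠ z) : Setting (QG Q) z g := by
  haveI : Fact (Nat.Prime 2) := ⟨Nat.prime_two⟩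
  have hc' : Nat.card (QG Q) = 2 ^ 13 := by
    rw [Subgroup.card_map_of_injective Subtype.val_injective, hc]
  have hQ' : Cfsg.IsExtraspecial 2 ↥(QG Q) :=
    FusionP3.GenExtra.isExtraspecial_congr (Q.equivMapOfInjective _ (Cz z).subtype_injective) hQ
  have hcF : ∀ c ∈ Cz z, (∀ q ∈ QG Q, Commute c q) → c ∈ QG Q := fun c hcz hall =>
    ⟨⟨c, hcz⟩, hCJ (Subgroup.mem_centralizer_iff.mpr fun q hq =>
      Subtype.ext (hall q ⟨q, hq, rfl⟩).eq.symm), rfl⟩
  have hzcom : ∀ q ∈ QG Q, Commute z q := fun q hq =>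
    (Subgroup.mem_centralizer_singleton_iff.mp (Subgroup.map_subtype_le _ hq)).symm
  have hzQ : z ∈ QG Q := hcF z (Subgroup.mem_centralizer_singleton_iff.mpr rfl) hzcom
  obtain ⟨w, hw2, hwZ⟩ := Cfsg.Agent.Lib.LargeExtra.Basic.exists_z hQ'
  have hzZ : (Subgroup.center ↥(QG Q)).map (QG Q).subtype = Subgroup.zpowers z := by
    have h1 : z ∈ (Subgroup.center ↥(QG Q)).map (QG Q).subtype :=
      Cfsg.Agent.Lib.LargeExtra.Basic.mem_centerMap.mpr ⟨hzQ, fun q hq => (hzcom q hq).eq.symm⟩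
    rw [hwZ] at h1
    rcases Cfsg.Agent.Lib.LargeExtra.Basic.eq_one_or_eq hw2 h1 with h | h
    · simp [h] at hz
    · rw [hwZ, h]
  obtain ⟨hes, -⟩ := LargeExtra.TwoConjugate.es_of hQ' hzZ
  refine ⟨hes, fun c hc => ?_, fun c hc q hq => ?_, hgQ, hne, by rw [hc']; norm_num⟩
  · have hcC : c ∈ Cz z := Subgroup.mem_centralizer_singleton_iff.mpr (hc z hzQ).eq
    exact hes.center c (hcF c hcC hc) fun p hp => (hc p hp).symm
  · obtain ⟨f, hf, rfl⟩ := hq
    exact ⟨⟨c, Subgroup.mem_centralizer_singleton_iff.mpr hc.eq⟩ * f *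
      ⟨c, Subgroup.mem_centralizer_singleton_iff.mpr hc.eq⟩⁻¹,
      (inferInstance : Q.Normal).conj_mem f hf _, rfl⟩

/-- the large elementary image of a second conjugate -/
theorem ebar_spec (hz : orderOf z = 2) {Q : Subgroup (Cz z)} [Q.Normal] (hQ : Cfsg.IsExtraspecial 2 Q)
    (hc : Nat.card Q = 2 ^ 13) (hCJ : Subgroup.centralizer (Q : Set (Cz z)) ≤ Q) {g : G}
    (hgQ : g * z * g⁻¹ ∈ QG Q) (hne : g * z * g⁻¹ ≠ z) :
    (∀ a ∈ Ebar Q g, a * a = 1) ∧ 32 ≤ Nat.card (Ebar Q g) := by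
  have s := exists_setting hz hQ hc hCJ hgQ hne
  have hy := es' s
  set P := (QG Q).map (MulAut.conj g).toMonoidHom with hP
  set y := g * z * g⁻¹ with hydef
  constructor
  · rintro _ ⟨e, he, rfl⟩
    rw [← map_mul]
    apply (QuotientGroup.eq_one_iff _).mpr
    rcases hy.sq_cases he.1 with h | h
    · rw [show e * e = 1 from Subtype.ext h]; exact one_mem _
    · obtain ⟨q, hq, hqy⟩ := hgQ
      rw [show e * e = q from Subtype.ext (h.trans hqy.symm)]; exact hq
  have hzP : z ∈ P := z_mem s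
  have hcP : Nat.card P = 2 ^ 13 := by
    rw [hP, Subgroup.card_map_of_injective (MulAut.conj g).injective,
      Subgroup.card_map_of_injective Subtype.val_injective, hc]
  -- `|P ∩ C(z)| = 2¹²`
  set N := Subgroup.zpowers y ⊔ Subgroup.zpowers z with hN
  have hyN : y ∈ N := Subgroup.mem_sup_left (Subgroup.mem_zpowers y)
  have hNP : N ≤ P := sup_le (Subgroup.zpowers_le.mpr hy.mem) (Subgroup.zpowers_le.mpr hzP)
  have hN4 : Nat.card N = 4 := by
    have hzy : z ∉ Subgroup.zpowers y := fun h => by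
      rcases LargeExtra.Basic.eq_one_or_eq (orderOf_eq_prime (by rw [sq, hy.sq]) hy.ne) h with h | h
      · exact s.es.ne h
      · exact hne h.symm
    rw [hN, K41.ESCentralizer.card_adjoin hy (Subgroup.zpowers_le.mpr hy.mem)
      (Subgroup.mem_zpowers y) hzP hzy, K41.ESCentralizer.card_zpowers_z hy]
  have hB : P ⊓ Subgroup.centralizer (N : Set G) = P ⊓ Cz z := by
    ext x
    constructor
    · exact fun hx => ⟨hx.1, Subgroup.mem_centralizer_singleton_iff.mpr
        (hx.2 z (Subgroup.mem_sup_right (Subgroup.mem_zpowers z))).symm⟩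
    · intro hx
      have hle : N ≤ Subgroup.centralizer ({x} : Set G) :=
        sup_le (Subgroup.zpowers_le.mpr (Subgroup.mem_centralizer_singleton_iff.mpr
            (hy.comm x hx.1).eq.symm))
          (Subgroup.zpowers_le.mpr (Subgroup.mem_centralizer_singleton_iff.mpr
            (Subgroup.mem_centralizer_singleton_iff.mp hx.2).symm))
      exact ⟨hx.1, fun n hn => Subgroup.mem_centralizer_singleton_iff.mp (hle hn)⟩
  have h1 := K41.ESCentralizer.card_centralizer hy hNP hyN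
  rw [hB, hN4, hcP] at h1
  -- the kernel is abelian, hence of order at most `2⁷`
  set I := Ecap Q g with hI
  have hcomm : ∀ e ∈ I, ∀ f ∈ I, Commute e f := by
    intro e he f hf
    refine mul_inv_eq_iff_eq_mul.mp (?_ : e * f * e⁻¹ = f)
    rcases s.es.conj e he.1 f hf.1 with h | h
    · exact h
    · rcases hy.conj e he.2 f hf.2 with h' | h'
      · exact h'
      · exact absurd (mul_left_cancel (h.symm.trans h')).symm hne
  have hyI : y ∈ I := ⟨hgQ, hy.mem⟩
  have h7 : Nat.card I ≤ 2 ^ 7 := by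
    have ha := K41.ESCentralizer.card_centralizer hy (inf_le_right : I ≤ P) hyI
    have hb : Nat.card I ≤ Nat.card ↥(P ⊓ Subgroup.centralizer (I : Set G) : Subgroup G) :=
      Subgroup.card_le_of_le (le_inf inf_le_right fun a ha b hb => (hcomm b hb a ha).eq)
    rw [hcP] at ha
    have h3 := Nat.mul_le_mul_right (Nat.card I) hb
    rw [ha] at h3
    have h4 : Nat.card I * Nat.card I ≤ 128 * 128 := by norm_num at h3 ⊢; exact h3
    have := Nat.mul_self_le_mul_self_iff.mp h4
    norm_num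
    exact this
  let f := (QuotientGroup.mk' Q).comp ((P ⊓ Cz z).subgroupOf (Cz z)).subtype
  have hr : f.range = Ebar Q g := by rw [MonoidHom.range_comp, Subgroup.range_subtype]
  have hk : Nat.card f.ker ≤ Nat.card I := by
    refine Nat.card_le_card_of_injective (fun x => (⟨((x.1.1 : Cz z) : G),
      ⟨_, (QuotientGroup.eq_one_iff (N := Q) _).mp x.2, rfl⟩, (x.1.2 : _ ∈ P ⊓ Cz z).1⟩ : I)) fun a b h => ?_
    exact Subtype.ext (Subtype.ext (Subtype.ext (congrArg (fun w : I => (w : G)) h)))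
  have h2 := Subgroup.card_eq_card_quotient_mul_card_subgroup f.ker
  rw [Nat.card_congr (QuotientGroup.quotientKerEquivRange f).toEquiv, hr,
    Nat.card_congr (Subgroup.subgroupOfEquivOfLe (inf_le_right : P ⊓ Cz z ≤ Cz z)).toEquiv] at h2
  by_contra hlt
  push Not at hlt
  have := Nat.mul_le_mul (Nat.le_of_lt_succ (show Nat.card (Ebar Q g) < 31 + 1 from hlt)) (hk.trans h7)
  rw [← h2] at this
  norm_num at h1 this
  omega

/-- index one: `z` is not fused into `O₂(C(z))` -/
theorem not_fused_of_top (hz : orderOf z = 2) {Q M K : Subgroup (Cz z)} [Q.Normal] [M.Normal]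
    (hQ : Cfsg.IsExtraspecial 2 Q) (hc : Nat.card Q = 2 ^ 13)
    (hCJ : Subgroup.centralizer (Q : Set (Cz z)) ≤ Q) (hQM : Q ≤ M) (hM : Nat.card M = 3 * Nat.card Q)
    {L : Type*} [Field L] [Fintype L] (hL : Fintype.card L = 9) (e : (↥K ⧸ M.subgroupOf K) ≃* Cfsg.PSU 4 L 3)
    (hK : K.index = 1) {g : G} (hgQ : g * z * g⁻¹ ∈ QG Q) : g * z * g⁻¹ = z := by
  by_contra hne
  obtain ⟨hsq, h32⟩ := ebar_spec hz hQ hc hCJ hgQ hne
  obtain rfl : K = ⊤ := Subgroup.index_eq_one.mp hK
  set R := Ebar Q g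
  let ι : ↥(⊤ : Subgroup (Cz z)) →* (Cz z) ⧸ M :=
    (QuotientGroup.mk' M).comp (⊤ : Subgroup (Cz z)).subtype
  have hιs : Function.Surjective ι := fun q => by
    obtain ⟨c, rfl⟩ := QuotientGroup.mk_surjective q
    exact ⟨⟨c, trivial⟩, rfl⟩
  have hιk : ι.ker = M.subgroupOf ⊤ := by ext x; simp [ι, Subgroup.mem_subgroupOf]
  let θ : (Cz z) ⧸ M ≃* Cfsg.PSU 4 L 3 :=
    ((QuotientGroup.quotientMulEquivOfEq hιk).symm.trans
      (QuotientGroup.quotientKerEquivOfSurjective ι hιs)).symm.trans e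
  let φ : R →* Cfsg.PSU 4 L 3 :=
    (θ.toMonoidHom.comp (QuotientGroup.map Q M (MonoidHom.id _) fun w hw => hQM hw)).comp R.subtype
  have hinj : Function.Injective φ := by
    rw [injective_iff_map_eq_one]
    intro x hx
    have hx' : QuotientGroup.map Q M (MonoidHom.id _) (fun w hw => hQM hw) (x : (Cz z) ⧸ Q) = 1 :=
      θ.injective (by rw [map_one]; exact hx)
    obtain ⟨c, hcx⟩ := QuotientGroup.mk_surjective (x : (Cz z) ⧸ Q)
    rw [← hcx] at hx'
    replace hx' : c ∈ M := (QuotientGroup.eq_one_iff c).1 hx'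
    let ρ : M →* (Cz z) ⧸ Q := (QuotientGroup.mk' Q).comp M.subtype
    have hρ : Nat.card ρ.range = 3 := by
      have hk : ρ.ker = Q.subgroupOf M := by ext w; simp [ρ, Subgroup.mem_subgroupOf]
      have h := Subgroup.card_eq_card_quotient_mul_card_subgroup (Q.subgroupOf M)
      rw [Nat.card_congr (Subgroup.subgroupOfEquivOfLe hQM).toEquiv, hM] at h
      rw [← Nat.card_congr (QuotientGroup.quotientKerEquivRange ρ).toEquiv, hk]
      exact (Nat.eq_of_mul_eq_mul_right Nat.card_pos h).symm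
    have h3 : (x : (Cz z) ⧸ Q) ^ 3 = 1 := by
      have hmem : (x : (Cz z) ⧸ Q) ∈ ρ.range := ⟨⟨c, hx'⟩, hcx⟩
      have h := pow_card_eq_one' (x := (⟨_, hmem⟩ : ρ.range))
      rw [hρ] at h
      exact congrArg Subtype.val h
    refine Subtype.ext ?_
    have h2 := hsq x x.2
    rw [pow_succ, pow_two, h2, one_mul] at h3
    exact h3
  have hR : Nat.card R ≤ 16 := by
    rw [← Nat.card_congr (MonoidHom.ofInjective hinj).symm.toEquiv]
    refine card_elementary_le hL φ.range ?_ ?_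
    · rintro _ ⟨a, rfl⟩ _ ⟨b, rfl⟩
      rw [← map_mul, ← map_mul]
      congr 1
      have hi : ∀ w : R, w⁻¹ = w := fun w => inv_eq_of_mul_eq_one_right (Subtype.ext (hsq w w.2))
      calc a * b = (a * b)⁻¹ := (hi _).symm
        _ = b * a := by rw [mul_inv_rev, hi, hi]
    · rintro _ ⟨a, rfl⟩
      rw [← map_mul, show a * a = 1 from Subtype.ext (hsq a a.2), map_one]
  omega

end Cfsg.Agent.Lib.Fi24Char15
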