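import Mathlib

/-!
Projective elementary 2-groups of linear maps in small dimension (odd characteristic): order at most
`2 ^ (n - 1)` when the maps commute, at most four in dimension two, at most sixteen in dimension four.
-/

set_option autoImplicit false
set_option linter.style.haveILetI false
set_option linter.unusedSectionVars false

namespace Cfsg.Agent.Lib.Fi24Char15

universe u v

variable {K : Type*} [Field K] {V : Type v} [AddCommGroup V] [Module K V] {E : Type u} [CommGroup E]

/-- involutions representing an elementary group modulo scalars -/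
structure Invol (K : Type*) [Field K] (V : Type v) [AddCommGroup V] [Module K V] (E : Type u) [CommGroup E] where
  r : E → Module.End K V
  sq : ∀ e, r e * r e = 1
  mul : ∀ e f, ∃ s : K, r (e * f) = s • (r e * r f)
  inj : ∀ e, (∃ s : K, r e = s • 1) → e = 1

namespace Invol

variable (D : Invol K V E)

theorem app_app (e : E) (v : V) : D.r e (D.r e v) = v := by
  have := congrArg (fun f : Module.End K V => f v) (D.sq e)
  simpa using this

theorem mul_apply (e f : E) : ∃ s : K, ∀ v, D.r (e * f) v = s • D.r e (D.r f v) := by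
  obtain ⟨s, hs⟩ := D.mul e f
  exact ⟨s, fun v => by rw [hs]; rfl⟩

theorem one_scalar : ∃ s : K, ∀ v, D.r 1 v = s • v := by
  obtain ⟨s, hs⟩ := D.mul_apply 1 1
  refine ⟨s, fun v => ?_⟩
  have := hs v
  rwa [one_mul, D.app_app] at this

theorem ext_scalar {e : E} (s : K) (h : ∀ v, D.r e v = s • v) : e = 1 :=
  D.inj e ⟨s, LinearMap.ext fun v => by simp [h v]⟩

variable [Nontrivial V]

theorem sign (e f : E) :
    (∀ v, D.r e (D.r f v) = D.r f (D.r e v)) ∨ ∀ v, D.r e (D.r f v) = -D.r f (D.r e v) := by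
  obtain ⟨s, hs⟩ := D.mul_apply e f
  have hs0 : s ≠ 0 := fun h => by
    obtain ⟨v, hv⟩ := exists_ne (0 : V)
    refine hv ?_
    rw [← D.app_app (e * f) v, hs, h, zero_smul]
  have h4 : ∀ v, D.r e (D.r f (D.r e (D.r f v))) = (s * s)⁻¹ • v := fun v => by
    have := D.app_app (e * f) v
    rw [hs v, hs, map_smul, map_smul, smul_smul] at this
    rw [eq_inv_smul_iff₀ (mul_ne_zero hs0 hs0), this]
  have h2 : ∀ v, D.r e (D.r f v) = (s * s)⁻¹ • D.r f (D.r e v) := fun v => by
    rw [← h4, D.app_app, D.app_app]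
  obtain ⟨v₀, hv₀⟩ := exists_ne (0 : V)
  set t := (s * s)⁻¹
  have htt : t * t = 1 := by
    have h3 : ∀ v, D.r e (D.r f (D.r e v)) = t • D.r f v := fun v => by rw [h2, D.app_app]
    have e1 : D.r f v₀ = (t * t) • D.r f v₀ := by
      calc D.r f v₀ = D.r e (D.r e (D.r f (D.r e (D.r e v₀)))) := by rw [D.app_app, D.app_app]
        _ = D.r e (t • D.r f (D.r e v₀)) := by rw [h3]
        _ = (t * t) • D.r f v₀ := by rw [map_smul, h3, smul_smul]
    have e2 : (t * t - 1) • D.r f v₀ = 0 := by rw [sub_smul, one_smul, ← e1, sub_self]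
    rcases smul_eq_zero.1 e2 with h | h
    · exact sub_eq_zero.1 h
    · exact absurd (by rw [← D.app_app f v₀, h, map_zero]) hv₀
  rcases mul_self_eq_one_iff.1 htt with h | h
  · exact Or.inl fun v => by rw [h2, h, one_smul]
  · exact Or.inr fun v => by rw [h2, h, neg_smul, one_smul]

/-- the members acting on `W` as scalars -/
def scal (W : Submodule K V) : Subgroup E where
  carrier := {e | ∃ s : K, ∀ v ∈ W, D.r e v = s • v}
  one_mem' := by
    obtain ⟨s, hs⟩ := D.one_scalar
    exact ⟨s, fun v _ => hs v⟩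
  mul_mem' {e f} := by
    rintro ⟨a, ha⟩ ⟨b, hb⟩
    obtain ⟨s, hs⟩ := D.mul_apply e f
    exact ⟨s * b * a, fun v hv => by rw [hs, hb v hv, map_smul, ha v hv, smul_smul, smul_smul, mul_assoc]⟩
  inv_mem' {e} := by
    rintro ⟨a, ha⟩
    by_cases hW : ∀ v ∈ W, v = 0
    · exact ⟨0, fun v hv => by rw [hW v hv, map_zero, smul_zero]⟩
    push Not at hW
    obtain ⟨w, hw, hw0⟩ := hW
    obtain ⟨s₁, hs₁⟩ := D.one_scalar
    obtain ⟨s, hs⟩ := D.mul_apply e⁻¹ e
    rw [inv_mul_cancel] at hs
    have ha0 : a ≠ 0 := fun h => hw0 (by rw [← D.app_app e w, ha w hw, h, zero_smul, map_zero])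
    have hs0 : s ≠ 0 := fun h => hw0 (by rw [← D.app_app 1 w, hs, h, zero_smul])
    refine ⟨(s * a)⁻¹ * s₁, fun v hv => ?_⟩
    have := hs v
    rw [hs₁, ha v hv, map_smul, smul_smul] at this
    rw [mul_smul, eq_inv_smul_iff₀ (mul_ne_zero hs0 ha0), this]

/-- restriction to an invariant subspace, modulo the scalars there -/
noncomputable def restrict (W : Submodule K V) (hW : ∀ e, ∀ v ∈ W, D.r e v ∈ W) :
    Invol K W (E ⧸ D.scal W) where
  r q := (D.r q.out).restrict (hW q.out)
  sq q := LinearMap.ext fun v => Subtype.ext (by simpa using D.app_app q.out v)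
  mul q q' := by
    obtain ⟨k, hk⟩ : ∃ k ∈ D.scal W, (q * q').out = q.out * q'.out * k := by
      refine ⟨(q.out * q'.out)⁻¹ * (q * q').out, QuotientGroup.eq.1 ?_, by group⟩
      rw [QuotientGroup.mk_mul, QuotientGroup.out_eq', QuotientGroup.out_eq', QuotientGroup.out_eq']
    obtain ⟨⟨a, ha⟩, hke⟩ := hk
    obtain ⟨s, hs⟩ := D.mul_apply (q.out * q'.out) k
    obtain ⟨s', hs'⟩ := D.mul_apply q.out q'.out
    refine ⟨s * a * s', LinearMap.ext fun v => Subtype.ext ?_⟩
    show D.r (q * q').out v = (s * a * s') • D.r q.out (D.r q'.out v)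
    rw [hke, hs, ha v v.2, map_smul, hs', smul_smul, smul_smul]
  inj q := by
    rintro ⟨s, hs⟩
    rw [← QuotientGroup.out_eq' q, QuotientGroup.eq_one_iff]
    refine ⟨s, fun v hv => ?_⟩
    have := congrArg Subtype.val (congrArg (fun f : Module.End K W => f ⟨v, hv⟩) hs)
    simpa using this

/-- the fixed and negated vectors of one member -/
def eigen (e : E) (t : K) : Submodule K V where
  carrier := {v | D.r e v = t • v}
  zero_mem' := by simp
  add_mem' {a b} ha hb := by
    show D.r e (a + b) = t • (a + b)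
    rw [map_add, ha, hb, smul_add]
  smul_mem' c v hv := by
    show D.r e (c • v) = t • c • v
    rw [map_smul, hv, smul_comm]

theorem finrank_eigen [FiniteDimensional K V] (h2 : (2 : K) ≠ 0) (e : E) :
    Module.finrank K (D.eigen e 1) + Module.finrank K (D.eigen e (-1)) = Module.finrank K V := by
  have hd : D.eigen e 1 ⊓ D.eigen e (-1) = ⊥ := (Submodule.eq_bot_iff _).2 fun v hv => by
    have h1 : D.r e v = (1 : K) • v := hv.1
    have h2' : D.r e v = (-1 : K) • v := hv.2
    rw [h1, one_smul, neg_smul, one_smul] at h2'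
    have : (2 : K) • v = 0 := by rw [two_smul]; nth_rewrite 1 [h2']; exact neg_add_cancel v
    exact (smul_eq_zero.1 this).resolve_left h2
  have ht : D.eigen e 1 ⊔ D.eigen e (-1) = ⊤ := eq_top_iff.2 fun v _ => by
    have hv : v = (2 : K)⁻¹ • (v + D.r e v) + (2 : K)⁻¹ • (v - D.r e v) := by
      rw [← smul_add, add_add_sub_cancel, ← two_smul K v, inv_smul_smul₀ h2]
    rw [hv]
    refine Submodule.add_mem_sup ?_ ?_
    · show D.r e ((2 : K)⁻¹ • (v + D.r e v)) = _
      rw [map_smul, map_add, D.app_app, one_smul, add_comm]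
    · show D.r e ((2 : K)⁻¹ • (v - D.r e v)) = _
      rw [map_smul, map_sub, D.app_app, neg_smul, one_smul, ← smul_neg, neg_sub]
  have := Submodule.finrank_sup_add_finrank_inf_eq (D.eigen e 1) (D.eigen e (-1))
  rw [hd, ht, finrank_bot, finrank_top, add_zero] at this
  exact this.symm

theorem eigen_ne_bot [FiniteDimensional K V] (h2 : (2 : K) ≠ 0) {e : E} (he : e ≠ 1) (t : K)
    (ht : t = 1 ∨ t = -1) : D.eigen e t ≠ ⊥ := by
  intro h0
  have hf := D.finrank_eigen h2 e
  have key : ∀ s : K, Module.finrank K (D.eigen e s) = Module.finrank K V → False := fun s hs => by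
    refine he (D.ext_scalar s fun v => ?_)
    have : v ∈ D.eigen e s := Submodule.eq_top_of_finrank_eq hs ▸ Submodule.mem_top
    exact this
  rcases ht with rfl | rfl <;> rw [h0, finrank_bot] at hf
  · exact key (-1) (by rw [zero_add] at hf; exact hf)
  · exact key 1 (by rw [add_zero] at hf; exact hf)

end Invol

/-- commuting representatives -/
theorem card_comm (h2 : (2 : K) ≠ 0) :
    ∀ n, ∀ {V : Type v} [AddCommGroup V] [Module K V] [Nontrivial V] [FiniteDimensional K V]
      {E : Type u} [CommGroup E] [Finite E] (D : Invol K V E), Module.finrank K V ≤ n →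
      (∀ e f, ∀ v, D.r e (D.r f v) = D.r f (D.r e v)) → 2 * Nat.card E ≤ 2 ^ Module.finrank K V := by
  intro n
  induction n with
  | zero =>
    intro V _ _ _ _ E _ _ D hn _
    have := Module.finrank_pos (R := K) (M := V)
    omega
  | succ n ih =>
    intro V _ _ _ _ E _ _ D hn hcomm
    by_cases htriv : ∀ e : E, e = 1
    · haveI : Subsingleton E := ⟨fun a b => (htriv a).trans (htriv b).symm⟩
      rw [Nat.card_of_subsingleton (1 : E)]
      have := Module.finrank_pos (R := K) (M := V)
      calc 2 * 1 = 2 ^ 1 := rfl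
        _ ≤ _ := Nat.pow_le_pow_right (by norm_num) this
    push Not at htriv
    obtain ⟨e₀, he₀⟩ := htriv
    have hinv : ∀ (t : K) (e : E), ∀ v ∈ D.eigen e₀ t, D.r e v ∈ D.eigen e₀ t := fun t e v hv => by
      show D.r e₀ (D.r e v) = t • D.r e v
      rw [hcomm, (hv : D.r e₀ v = t • v), map_smul]
    set Wp := D.eigen e₀ 1
    set Wm := D.eigen e₀ (-1)
    have hp := D.eigen_ne_bot h2 he₀ 1 (Or.inl rfl)
    have hm := D.eigen_ne_bot h2 he₀ (-1) (Or.inr rfl)
    haveI : Nontrivial Wp := Submodule.nontrivial_iff_ne_bot.2 hp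
    haveI : Nontrivial Wm := Submodule.nontrivial_iff_ne_bot.2 hm
    have hf : Module.finrank K Wp + Module.finrank K Wm = Module.finrank K V := D.finrank_eigen h2 e₀
    have h1 := Module.finrank_pos (R := K) (M := Wp)
    have h1' := Module.finrank_pos (R := K) (M := Wm)
    have hb : ∀ (W : Submodule K V) (hW : ∀ e, ∀ v ∈ W, D.r e v ∈ W), Nontrivial W → Module.finrank K W ≤ n →
        2 * Nat.card (E ⧸ D.scal W) ≤ 2 ^ Module.finrank K W := fun W hW _ hle =>
      ih (D.restrict W hW) hle fun q q' v => Subtype.ext (hcomm q.out q'.out v)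
    have bp := hb Wp (hinv 1) inferInstance (by omega)
    have bm := hb Wm (hinv (-1)) inferInstance (by omega)
    -- the members scalar on both
    have hker : Nat.card ↥(D.scal Wp ⊓ D.scal Wm) ≤ 2 := by
      have hall : ∀ e ∈ D.scal Wp ⊓ D.scal Wm, e = 1 ∨ e * e₀ = 1 := by
        rintro e ⟨⟨a, ha⟩, b, hb'⟩
        obtain ⟨w, hw, hw0⟩ := Submodule.exists_mem_ne_zero_of_ne_bot hp
        obtain ⟨w', hw', hw0'⟩ := Submodule.exists_mem_ne_zero_of_ne_bot hm
        have sq1 : ∀ {x : V} {c : K}, D.r e x = c • x → x ≠ 0 → c = 1 ∨ c = -1 := fun {x c} hc hx => by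
          have h := D.app_app e x
          rw [hc, map_smul, hc, smul_smul] at h
          refine mul_self_eq_one_iff.1 (sub_eq_zero.1 ((smul_eq_zero.1 ?_).resolve_right hx))
          rw [sub_smul, one_smul, h, sub_self]
        have ha1 := sq1 (ha w hw) hw0
        have hb1 := sq1 (hb' w' hw') hw0'
        have hdec : ∀ v, ∃ p ∈ Wp, ∃ q ∈ Wm, p + q = v := fun v => by
          have ht : Wp ⊔ Wm = ⊤ := by
            refine Submodule.eq_top_of_finrank_eq ?_
            have := Submodule.finrank_sup_add_finrank_inf_eq Wp Wm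
            have hd : Wp ⊓ Wm = ⊥ := (Submodule.eq_bot_iff _).2 fun x hx => by
              have e1 : D.r e₀ x = (1 : K) • x := hx.1
              have e2 : D.r e₀ x = (-1 : K) • x := hx.2
              rw [e1, one_smul, neg_smul, one_smul] at e2
              have : (2 : K) • x = 0 := by rw [two_smul]; nth_rewrite 1 [e2]; exact neg_add_cancel x
              exact (smul_eq_zero.1 this).resolve_left h2
            rw [hd, finrank_bot, add_zero] at this
            omega
          exact Submodule.mem_sup.1 (ht ▸ Submodule.mem_top)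
        by_cases hab : a = b
        · refine Or.inl (D.ext_scalar a fun v => ?_)
          obtain ⟨p, hp', q, hq, rfl⟩ := hdec v
          rw [map_add, ha p hp', hb' q hq, hab, smul_add]
        · refine Or.inr ?_
          have hba : b = -a := by
            rcases ha1 with rfl | rfl <;> rcases hb1 with rfl | rfl <;> first | exact absurd rfl hab | simp
          obtain ⟨s, hs⟩ := D.mul_apply e e₀
          refine D.ext_scalar (s * a) fun v => ?_
          obtain ⟨p, hp', q, hq, rfl⟩ := hdec v
          rw [hs, map_add, (hp' : D.r e₀ p = (1 : K) • p), (hq : D.r e₀ q = (-1 : K) • q), map_add, map_smul,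
            map_smul, ha p hp', hb' q hq, hba, one_smul, smul_smul, neg_one_mul, neg_neg, ← smul_add, smul_smul]
      let f : ↥(D.scal Wp ⊓ D.scal Wm) → Bool := fun e => @decide ((e : E) = 1) (Classical.propDecidable _)
      refine le_trans (Nat.card_le_card_of_injective f fun x y hxy => ?_) (by simp)
      simp only [f, decide_eq_decide] at hxy
      refine Subtype.ext ?_
      rcases hall x x.2 with hx | hx
      · rw [hx, hxy.1 hx]
      rcases hall y y.2 with hy | hy
      · rw [hy, hxy.2 hy]
      exact mul_right_cancel (hx.trans hy.symm)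
    have e1 := Subgroup.card_eq_card_quotient_mul_card_subgroup (D.scal Wp)
    have e2 : Nat.card (D.scal Wp) ≤ Nat.card (E ⧸ D.scal Wm) * Nat.card ↥(D.scal Wp ⊓ D.scal Wm) := by
      let φ : ↥(D.scal Wp) →* E ⧸ D.scal Wm := (QuotientGroup.mk' _).comp (D.scal Wp).subtype
      rw [Subgroup.card_eq_card_quotient_mul_card_subgroup φ.ker]
      refine Nat.mul_le_mul ?_ ?_
      · rw [Nat.card_congr (QuotientGroup.quotientKerEquivRange φ).toEquiv]
        exact Nat.card_le_card_of_injective _ Subtype.val_injective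
      · refine Nat.card_le_card_of_injective
          (fun x => (⟨(x.1 : E), x.1.2, (QuotientGroup.eq_one_iff _).1 (MonoidHom.mem_ker.1 x.2)⟩ :
            ↥(D.scal Wp ⊓ D.scal Wm))) fun x y hxy => Subtype.ext (Subtype.ext (congrArg (fun z : ↥(D.scal Wp ⊓ D.scal Wm) => (z : E)) hxy))
    rw [← hf, pow_add]
    calc 2 * Nat.card E ≤ 2 * (Nat.card (E ⧸ D.scal Wp) * (Nat.card (E ⧸ D.scal Wm) * 2)) := by
          rw [e1]; exact Nat.mul_le_mul_left 2 (Nat.mul_le_mul_left _ (e2.trans (Nat.mul_le_mul_left _ hker)))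
      _ = (2 * Nat.card (E ⧸ D.scal Wp)) * (2 * Nat.card (E ⧸ D.scal Wm)) := by ring
      _ ≤ _ := Nat.mul_le_mul bp bm

namespace Invol

variable (D : Invol K V E) [Nontrivial V]

/-- the members commuting with `r a` -/
def centr (a : E) : Subgroup E where
  carrier := {e | ∀ v, D.r e (D.r a v) = D.r a (D.r e v)}
  one_mem' v := by
    obtain ⟨s, hs⟩ := D.one_scalar
    rw [hs, hs, map_smul]
  mul_mem' {e f} he hf v := by
    obtain ⟨s, hs⟩ := D.mul_apply e f
    rw [hs, hs, hf, he, map_smul]
  inv_mem' {e} he v := by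
    obtain ⟨s₁, hs₁⟩ := D.one_scalar
    obtain ⟨s, hs⟩ := D.mul_apply e⁻¹ e
    rw [inv_mul_cancel] at hs
    have hs0 : s ≠ 0 := fun h => by
      obtain ⟨w, hw⟩ := exists_ne (0 : V)
      exact hw (by rw [← D.app_app 1 w, hs, h, zero_smul])
    have hinv : ∀ w, D.r e⁻¹ w = (s⁻¹ * s₁) • D.r e w := fun w => by
      have := hs (D.r e w)
      rw [hs₁, D.app_app] at this
      rw [mul_smul, eq_inv_smul_iff₀ hs0, this]
    rw [hinv, hinv, he, map_smul]

theorem index_centr [Finite E] (h2 : (2 : K) ≠ 0) (a : E) : (D.centr a).index ≤ 2 := by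
  by_cases h : D.centr a = ⊤
  · rw [h, Subgroup.index_top]; norm_num
  obtain ⟨x, hx⟩ : ∃ x, x ∉ D.centr a := by
    by_contra hc
    push Not at hc
    exact h ((Subgroup.eq_top_iff' _).2 hc)
  have anti : ∀ y, y ∉ D.centr a → ∀ v, D.r y (D.r a v) = -D.r a (D.r y v) := fun y hy =>
    (D.sign y a).resolve_left hy
  have hno : ∀ y, (∀ v, D.r y (D.r a v) = -D.r a (D.r y v)) → y ∉ D.centr a := fun y hy hc => by
    obtain ⟨w, hw⟩ := exists_ne (0 : V)
    have e1 := hy w
    rw [hc w] at e1
    have h0 : (2 : K) • D.r a (D.r y w) = 0 := by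
      rw [two_smul]; nth_rewrite 1 [e1]; exact neg_add_cancel _
    have h00 := (smul_eq_zero.1 h0).resolve_left h2
    exact hw (by rw [← D.app_app y w, ← D.app_app a (D.r y w), h00, map_zero, map_zero])
  refine le_of_eq (Subgroup.index_eq_two_iff.2 ⟨x, fun y => ?_⟩)
  by_cases hy : y ∈ D.centr a
  · refine Or.inr ⟨hy, hno _ fun v => ?_⟩
    obtain ⟨s, hs⟩ := D.mul_apply y x
    rw [hs, hs, anti x hx, map_neg, hy, map_smul, smul_neg]
  · refine Or.inl ⟨fun v => ?_, hy⟩
    obtain ⟨s, hs⟩ := D.mul_apply y x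
    rw [hs, hs, anti x hx, map_neg, anti y hy, neg_neg, map_smul]

variable [FiniteDimensional K V] [Finite E]

/-- two anticommuting members: reduce to half the dimension -/
theorem exists_half (h2 : (2 : K) ≠ 0) {a b : E} (hab : ∀ v, D.r a (D.r b v) = -D.r b (D.r a v)) :
    ∃ (W : Submodule K V) (C : Subgroup E), 2 * Module.finrank K W = Module.finrank K V ∧
      Nat.card E ≤ 4 * Nat.card C ∧ Nonempty (Invol K W C) := by
  set W := D.eigen a 1
  set C := D.centr a ⊓ D.centr b
  have hswap : ∀ (t : K) v, v ∈ D.eigen a t → D.r b v ∈ D.eigen a (-t) := fun t v hv => by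
    show D.r a (D.r b v) = (-t) • D.r b v
    rw [hab, (hv : D.r a v = t • v), map_smul, neg_smul]
  have hle : ∀ t, Module.finrank K (D.eigen a t) ≤ Module.finrank K (D.eigen a (-t)) := fun t =>
    LinearMap.finrank_le_finrank_of_injective (f := (D.r b).restrict (hswap t)) fun x y h => by
      have h' := congrArg (fun z : D.eigen a (-t) => D.r b (z : V)) h
      simp only [LinearMap.coe_restrict_apply, D.app_app] at h'
      exact Subtype.ext h'
  have hf : Module.finrank K W + Module.finrank K (D.eigen a (-1)) = Module.finrank K V := D.finrank_eigen h2 a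
  have h1 : Module.finrank K W ≤ Module.finrank K (D.eigen a (-1)) := hle 1
  have h2' : Module.finrank K (D.eigen a (-1)) ≤ Module.finrank K W := by
    have := hle (-1); rwa [neg_neg] at this
  have hinv : ∀ e ∈ C, ∀ v ∈ W, D.r e v ∈ W := fun e he v hv => by
    show D.r a (D.r e v) = (1 : K) • D.r e v
    rw [← he.1, (hv : D.r a v = (1 : K) • v), one_smul, one_smul]
  refine ⟨W, C, by omega, ?_, ⟨⟨fun e => (D.r e).restrict (hinv e e.2),
    fun e => LinearMap.ext fun v => Subtype.ext (by simpa using D.app_app (e : E) v), fun e f => ?_,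
    fun e he => ?_⟩⟩⟩
  · have hC := C.card_mul_index
    have hi : C.index ≤ 4 :=
      Subgroup.index_inf_le.trans (Nat.mul_le_mul (D.index_centr h2 a) (D.index_centr h2 b))
    calc Nat.card E = Nat.card C * C.index := hC.symm
      _ ≤ Nat.card C * 4 := Nat.mul_le_mul_left _ hi
      _ = _ := mul_comm _ _
  · obtain ⟨s, hs⟩ := D.mul_apply e f
    exact ⟨s, LinearMap.ext fun v => Subtype.ext (by simpa using hs v)⟩
  · obtain ⟨s, hs⟩ := he
    have hsW : ∀ v ∈ W, D.r (e : E) v = s • v := fun v hv => by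
      have := congrArg Subtype.val (congrArg (fun f : Module.End K W => f ⟨v, hv⟩) hs)
      simpa using this
    refine Subtype.ext (D.ext_scalar s fun v => ?_)
    have hv : v = (2 : K)⁻¹ • (v + D.r a v) + (2 : K)⁻¹ • (v - D.r a v) := by
      rw [← smul_add, add_add_sub_cancel, ← two_smul K v, inv_smul_smul₀ h2]
    have hp : v + D.r a v ∈ W := by
      show D.r a (v + D.r a v) = _
      rw [map_add, D.app_app, one_smul, add_comm]
    have hq : D.r b (v - D.r a v) ∈ W := by
      have := hswap (-1) (v - D.r a v) (by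
        show D.r a (v - D.r a v) = _
        rw [map_sub, D.app_app, neg_smul, one_smul, neg_sub])
      rwa [neg_neg] at this
    have hq' : D.r (e : E) (v - D.r a v) = s • (v - D.r a v) := by
      calc D.r (e : E) (v - D.r a v) = D.r (e : E) (D.r b (D.r b (v - D.r a v))) := by rw [D.app_app]
        _ = D.r b (D.r (e : E) (D.r b (v - D.r a v))) := by rw [e.2.2]
        _ = _ := by rw [hsW _ hq, map_smul, D.app_app]
    calc D.r (e : E) v = (2 : K)⁻¹ • (s • (v + D.r a v)) + (2 : K)⁻¹ • (s • (v - D.r a v)) := by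
          conv_lhs => rw [hv]
          rw [map_add, map_smul, map_smul, hsW _ hp, hq']
      _ = s • ((2 : K)⁻¹ • (v + D.r a v) + (2 : K)⁻¹ • (v - D.r a v)) := by
          simp only [smul_add, smul_sub, smul_comm s]
      _ = s • v := by rw [← hv]

/-- all commute or two members anticommute -/
theorem comm_or_anti : (∀ e f, ∀ v, D.r e (D.r f v) = D.r f (D.r e v)) ∨
    ∃ a b, ∀ v, D.r a (D.r b v) = -D.r b (D.r a v) := by
  by_cases h : ∀ e f, ∀ v, D.r e (D.r f v) = D.r f (D.r e v)
  · exact Or.inl h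
  push Not at h
  obtain ⟨a, b, v, hv⟩ := h
  exact Or.inr ⟨a, b, (D.sign a b).resolve_left fun hh => hv (hh v)⟩

end Invol

theorem card_one {V : Type v} [AddCommGroup V] [Module K V] {E : Type u} [CommGroup E]
    (D : Invol K V E) (h : Module.finrank K V = 1) : Nat.card E = 1 := by
  haveI : Subsingleton E := by
    refine ⟨fun x y => ?_⟩
    suffices ∀ e : E, e = 1 from (this x).trans (this y).symm
    intro e
    obtain ⟨v, hv, hsp⟩ := finrank_eq_one_iff'.1 h
    obtain ⟨s, hs⟩ := hsp (D.r e v)
    refine D.ext_scalar s fun w => ?_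
    obtain ⟨c, rfl⟩ := hsp w
    rw [map_smul, ← hs, smul_comm]
  exact Nat.card_of_subsingleton (1 : E)

theorem card_two {V : Type v} [AddCommGroup V] [Module K V] [Nontrivial V] [FiniteDimensional K V]
    {E : Type u} [CommGroup E] [Finite E] (h2 : (2 : K) ≠ 0) (D : Invol K V E)
    (h : Module.finrank K V = 2) : Nat.card E ≤ 4 := by
  rcases D.comm_or_anti with hc | ⟨a, b, hab⟩
  · have := card_comm h2 2 D h.le hc
    rw [h] at this
    omega
  · obtain ⟨W, C, hW, hE, ⟨D'⟩⟩ := D.exists_half h2 hab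
    have := card_one D' (by omega)
    omega

/-- at most sixteen in dimension four -/
theorem card_four {V : Type v} [AddCommGroup V] [Module K V] [Nontrivial V] [FiniteDimensional K V]
    {E : Type u} [CommGroup E] [Finite E] (h2 : (2 : K) ≠ 0) (D : Invol K V E)
    (h : Module.finrank K V = 4) : Nat.card E ≤ 16 := by
  rcases D.comm_or_anti with hc | ⟨a, b, hab⟩
  · have := card_comm h2 4 D h.le hc
    rw [h] at this
    omega
  · obtain ⟨W, C, hW, hE, ⟨D'⟩⟩ := D.exists_half h2 hab
    haveI : Nontrivial W := Module.nontrivial_of_finrank_pos (R := K) (by omega)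
    have := card_two h2 D' (by omega)
    omega

end Cfsg.Agent.Lib.Fi24Char15
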