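import Cfsg.Agent.Lib.Fi24Char15.InvolRank
import Cfsg.Agent.Lib.Unitary.Transvection
import Cfsg.Prelude.Def_Classical

/-!
The 2-rank of `PSU(4,3)` is at most four.
-/

set_option autoImplicit false
set_option linter.style.haveILetI false

namespace Cfsg.Agent.Lib.Fi24Char15

open Matrix Cfsg.Agent.Lib.Unitary

variable {K : Type*} [Field K] [Fintype K]

/-- an elementary abelian subgroup of `PSU(4,3)` has at most sixteen elements -/
theorem card_elementary_le (hK : Fintype.card K = 9) (E : Subgroup (Cfsg.PSU 4 K 3))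
    (hc : ∀ a ∈ E, ∀ b ∈ E, a * b = b * a) (h2 : ∀ a ∈ E, a * a = 1) : Nat.card E ≤ 16 := by
  have hF : Fintype.card K = 3 ^ 2 := by rw [hK]; norm_num
  have hne2 : (2 : K) ≠ 0 := by
    intro h
    obtain ⟨n, hp, hn⟩ := FiniteField.card K (ringChar K)
    haveI := ringChar.charP K
    have hdvd : ringChar K ∣ 2 := (CharP.cast_eq_zero_iff K (ringChar K) 2).1 (by exact_mod_cast h)
    have hp2 : ringChar K = 2 := (Nat.prime_dvd_prime_iff_eq hp Nat.prime_two).1 hdvd
    rw [hK, hp2] at hn
    have h9 : 2 ∣ 9 := ⟨2 ^ ((n : ℕ) - 1), by rw [hn, ← pow_succ', Nat.sub_add_cancel n.pos]⟩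
    norm_num at h9
  -- a scalar squaring to the square
  have key : ∀ X : ↥(Cfsg.SU 4 K 3), (QuotientGroup.mk (X * X) : Cfsg.PSU 4 K 3) = 1 →
      ∃ m : K, m ≠ 0 ∧ ∀ x, X.1.1 *ᵥ (X.1.1 *ᵥ x) = (m * m) • x := by
    intro X hX
    obtain ⟨l, hl⟩ := (mem_center_SU_iff hF (by norm_num) _).1 ((QuotientGroup.eq_one_iff _).1 hX)
    have hl' : ∀ x, X.1.1 *ᵥ (X.1.1 *ᵥ x) = l • x := fun x => by
      rw [Matrix.mulVec_mulVec]; exact hl x
    have hmat : X.1.1 * X.1.1 = l • (1 : Matrix (Fin 4) (Fin 4) K) := Matrix.ext_of_mulVec_single fun i => by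
      rw [← Matrix.mulVec_mulVec, hl', Matrix.smul_mulVec, Matrix.one_mulVec]
    have hdet := congrArg Matrix.det hmat
    rw [Matrix.det_mul, X.1.2, one_mul, Matrix.det_smul, Matrix.det_one, mul_one, Fintype.card_fin] at hdet
    have hl0 : l ≠ 0 := fun h => by rw [h, zero_pow (by norm_num)] at hdet; exact one_ne_zero hdet
    have hchar : ringChar K ≠ 2 := fun h => hne2 (by
      haveI := ringChar.of_eq h
      exact_mod_cast CharP.cast_eq_zero K 2)
    obtain ⟨m, hm⟩ := (FiniteField.isSquare_iff hchar hl0).2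
      (by rw [hK]; exact hdet.symm)
    exact ⟨m, fun h => hl0 (by rw [hm, h, mul_zero]), fun x => by rw [hl', hm]⟩
  choose X hX using fun e : E => QuotientGroup.mk_surjective (e : Cfsg.PSU 4 K 3)
  have hsq : ∀ e : E, (QuotientGroup.mk (X e * X e) : Cfsg.PSU 4 K 3) = 1 := fun e => by
    rw [QuotientGroup.mk_mul, hX, h2 e e.2]
  choose m hm0 hm using fun e => key (X e) (hsq e)
  letI : CommGroup E := { (inferInstance : Group E) with mul_comm := fun a b => Subtype.ext (hc a a.2 b b.2) }
  let D : Invol K (Fin 4 → K) E :=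
  { r := fun e => (m e)⁻¹ • Matrix.toLin' (X e).1.1
    sq := fun e => LinearMap.ext fun x => by
      simp only [Module.End.mul_apply, LinearMap.smul_apply, Matrix.toLin'_apply, Module.End.one_apply,
        Matrix.mulVec_smul, hm, smul_smul]
      rw [show (m e)⁻¹ * ((m e)⁻¹ * (m e * m e)) = 1 by field_simp [hm0 e], one_smul]
    mul := fun e f => by
      have hcen : (X e * X f)⁻¹ * X (e * f) ∈ Subgroup.center ↥(Cfsg.SU 4 K 3) := by
        rw [← QuotientGroup.eq, QuotientGroup.mk_mul, hX, hX, hX]; rfl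
      obtain ⟨l, hl⟩ := (mem_center_SU_iff hF (by norm_num) _).1 hcen
      refine ⟨(m (e * f))⁻¹ * l * (m e * m f), LinearMap.ext fun x => ?_⟩
      have heq : (X (e * f)).1.1 = ((X e).1.1 * (X f).1.1) * ((X e * X f)⁻¹ * X (e * f)).1.1 := by
        conv_lhs => rw [show X (e * f) = X e * X f * ((X e * X f)⁻¹ * X (e * f)) by group]
        rfl
      simp only [LinearMap.smul_apply, Matrix.toLin'_apply, Module.End.mul_apply]
      rw [heq, ← Matrix.mulVec_mulVec, hl, Matrix.mulVec_smul, ← Matrix.mulVec_mulVec, Matrix.mulVec_smul,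
        smul_smul, smul_smul, smul_smul]
      congr 1
      field_simp [hm0 e, hm0 f]
    inj := fun e => by
      rintro ⟨s, hs⟩
      have hcen : X e ∈ Subgroup.center ↥(Cfsg.SU 4 K 3) := (mem_center_SU_iff hF (by norm_num) _).2
        ⟨m e * s, fun x => by
          have := congrArg (fun f : Module.End K (Fin 4 → K) => f x) hs
          simp only [LinearMap.smul_apply, Matrix.toLin'_apply, Module.End.one_apply] at this
          rw [inv_smul_eq_iff₀ (hm0 e)] at this
          rw [this, smul_smul]⟩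
      refine Subtype.ext ?_
      rw [← hX e]
      exact (QuotientGroup.eq_one_iff _).2 hcen }
  exact card_four hne2 D (Module.finrank_fin_fun K)

end Cfsg.Agent.Lib.Fi24Char15
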